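import Cfsg.Agent.KFacts.J2.Basic
import Cfsg.Agent.J2Type.ThreeF
import Cfsg.Agent.J2Type.FiveFus

/-!
# Element orders in groups of Hall–Janko type: the upper bound

`orders_mem`: in a group with the data `Dat t u Q v ρ` of a group of Hall–Janko type, every element has
order 1, 2, 3, 4, 5, 6, 7, 8, 10, 12 or 15.
-/

set_option autoImplicit false

namespace Cfsg.Agent.H379.J2Orders

open Subgroup Cfsg.Agent.J2Type.Base Cfsg.Agent.J2Type.CentU

/-- An element whose order is divisible by `m` has a power of order `m`. -/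
theorem exists_pow_orderOf {G : Type*} [Group G] [Finite G] (g : G) {m : ℕ} (h : m ∣ orderOf g) :
    ∃ k : ℕ, orderOf (g ^ k) = m := by
  have h0 : 0 < orderOf g := orderOf_pos g
  obtain ⟨c, hc⟩ := h
  have hc0 : c ≠ 0 := by rintro rfl; omega
  refine ⟨c, ?_⟩
  rw [orderOf_pow_of_dvd hc0 ⟨m, by rw [hc, mul_comm]⟩, hc]
  exact Nat.mul_div_cancel _ (Nat.pos_of_ne_zero hc0)

theorem orderOf_pow_eq {G : Type*} [Group G] {g : G} {n k m : ℕ} (h : orderOf g = n) (hk : k ≠ 0) (hn : n = m * k) :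
    orderOf (g ^ k) = m := by
  rw [orderOf_pow_of_dvd hk (by rw [h, hn]; exact Dvd.intro_left m rfl), h, hn]
  exact Nat.mul_div_cancel _ (Nat.pos_of_ne_zero hk)

section

variable {G : Type*} [Group G] [Finite G] {z u : G} {U V H0 : Subgroup G} {f : G}

/-- An element of order divisible by 4 has its involution conjugate to `z`. -/
theorem isConj_of_sq (h : Fus z u) {x : G} (hx : orderOf (x * x) = 2) : IsConj z (x * x) := by
  rcases h.cover _ hx with h1 | h1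
  · exact h1
  · exfalso
    obtain ⟨g, hg⟩ := isConj_iff.1 h1.symm
    obtain ⟨f, U, V, H0, F⟩ := Cfsg.Agent.J2Type.CentU.main h
    have h2 : (g * x * g⁻¹) * (g * x * g⁻¹) = u := by rw [← hg]; group
    have h3 : g * x * g⁻¹ ∈ centralizer ({u} : Set G) := by
      rw [mem_centralizer_singleton_iff, ← h2]
      group
    have h4 := F.str.sq_mem _ h3
    rw [h2] at h4
    exact F.str.notMem h4

theorem not_ord_20 (h : Fus z u) (g : G) : orderOf g ≠ 20 := by
  intro hg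
  have h10 : orderOf (g ^ 10) = 2 := orderOf_pow_eq hg (by decide) rfl
  have h4 : orderOf (g ^ 4) = 5 := orderOf_pow_eq hg (by decide) rfl
  have h5 : orderOf (g ^ 5) = 4 := orderOf_pow_eq hg (by decide) rfl
  have e : g ^ 5 * g ^ 5 = g ^ 10 := by rw [← pow_add]
  have h1 : IsConj z (g ^ 10) := by
    rw [← e]
    apply isConj_of_sq h
    rw [e, h10]
  obtain ⟨c, hc⟩ := isConj_iff.1 h1.symm
  have h2 : orderOf (c * g ^ 4 * c⁻¹) = 5 := by
    rw [← h4]; exact (MulAut.conj c).orderOf_eq (g ^ 4)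
  have h3 : (c * g ^ 4 * c⁻¹) * z = z * (c * g ^ 4 * c⁻¹) := by
    rw [← hc]
    calc c * g ^ 4 * c⁻¹ * (c * g ^ 10 * c⁻¹) = c * (g ^ 4 * g ^ 10) * c⁻¹ := by group
      _ = c * (g ^ 10 * g ^ 4) * c⁻¹ := by rw [← pow_add, ← pow_add]
      _ = _ := by group
  have h6 := Cfsg.Agent.J2Type.FiveFus.not_four_dvd h h2 h3
  apply h6
  have h7 : orderOf (c * g ^ 5 * c⁻¹) = 4 := by
    rw [← h5]; exact (MulAut.conj c).orderOf_eq (g ^ 5)
  have h8 : c * g ^ 5 * c⁻¹ ∈ centralizer ({c * g ^ 4 * c⁻¹} : Set G) := by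
    rw [mem_centralizer_singleton_iff]
    calc c * g ^ 5 * c⁻¹ * (c * g ^ 4 * c⁻¹) = c * (g ^ 5 * g ^ 4) * c⁻¹ := by group
      _ = c * (g ^ 4 * g ^ 5) * c⁻¹ := by rw [← pow_add, ← pow_add]
      _ = _ := by group
  have h9 := Subgroup.orderOf_dvd_natCard _ h8
  rwa [h7] at h9

theorem not_ord_30 (h : Fus z u) (g : G) : orderOf g ≠ 30 := by
  intro hg
  have h15 : orderOf (g ^ 15) = 2 := orderOf_pow_eq hg (by decide) rfl
  have h6 : orderOf (g ^ 6) = 5 := orderOf_pow_eq hg (by decide) rfl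
  have h10 : orderOf (g ^ 10) = 3 := orderOf_pow_eq hg (by decide) rfl
  have key : ∀ c : G, ∀ i j : ℕ, (c * g ^ i * c⁻¹) * (c * g ^ j * c⁻¹) = (c * g ^ j * c⁻¹) * (c * g ^ i * c⁻¹) := by
    intro c i j
    calc c * g ^ i * c⁻¹ * (c * g ^ j * c⁻¹) = c * (g ^ i * g ^ j) * c⁻¹ := by group
      _ = c * (g ^ j * g ^ i) * c⁻¹ := by rw [← pow_add, ← pow_add, add_comm]
      _ = _ := by group
  have ord : ∀ c : G, ∀ i : ℕ, orderOf (c * g ^ i * c⁻¹) = orderOf (g ^ i) := by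
    intro c i; exact (MulAut.conj c).orderOf_eq (g ^ i)
  rcases h.cover _ h15 with h1 | h1
  · obtain ⟨c, hc⟩ := isConj_iff.1 h1.symm
    have h2 := Cfsg.Agent.J2Type.ThreeD.not_three_dvd h (w0 := c * g ^ 6 * c⁻¹) (by rw [ord, h6])
      (by rw [← hc]; exact key c 6 15)
    apply h2
    have h8 : c * g ^ 10 * c⁻¹ ∈ centralizer ({c * g ^ 6 * c⁻¹} : Set G) := by
      rw [mem_centralizer_singleton_iff]; exact key c 10 6
    have h9 := Subgroup.orderOf_dvd_natCard _ h8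
    rwa [ord, h10] at h9
  · obtain ⟨c, hc⟩ := isConj_iff.1 h1.symm
    obtain ⟨f, U, V, H0, F⟩ := Cfsg.Agent.J2Type.CentU.main h
    obtain ⟨-, -, h60, ⟨e⟩⟩ := Cfsg.Agent.J2Type.Order.order_of_fus h F.str
    have hC : ∀ i : ℕ, c * g ^ i * c⁻¹ ∈ centralizer ({u} : Set G) := by
      intro i
      rw [mem_centralizer_singleton_iff, ← hc]; exact key c i 15
    have hsq : ∀ i : ℕ, c * g ^ (i + i) * c⁻¹ ∈ H0 := by
      intro i
      have h2 := F.str.sq_mem _ (hC i)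
      have e1 : c * g ^ i * c⁻¹ * (c * g ^ i * c⁻¹) = c * g ^ (i + i) * c⁻¹ := by
        rw [pow_add]; group
      rwa [e1] at h2
    have h2 : orderOf (c * g ^ 2 * c⁻¹) = 15 := by
      rw [ord]; exact orderOf_pow_eq hg (by decide) rfl
    have h3 : c * g ^ 2 * c⁻¹ ∈ H0 := hsq 1
    have h4 : orderOf (⟨_, h3⟩ : H0) = 15 := (Subgroup.orderOf_mk _ _).trans h2
    have h5 : orderOf (e ⟨_, h3⟩) = 15 := (e.orderOf_eq _).trans h4
    rcases Cfsg.Agent.J2Type.ThreeA.orders_A5 (e ⟨_, h3⟩) with h7 | h7 | h7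
    all_goals
      have h8 := orderOf_dvd_of_pow_eq_one h7
      rw [h5] at h8
      revert h8; decide

theorem not_ord_7 (h : Fus z u) (g : G) {p : ℕ} (hp : p.Prime) (hp7 : p = 2 ∨ p = 3 ∨ p = 5) :
    orderOf g ≠ 7 * p := by
  intro hg
  have h7 : orderOf (g ^ p) = 7 := orderOf_pow_eq hg hp.ne_zero rfl
  have : Fact (Nat.Prime 7) := ⟨by norm_num⟩
  have hcard := Cfsg.Agent.J2Type.Order.card_of_fus h
  obtain ⟨D, hD⟩ := (IsPGroup.of_card (p := 7) (n := 1)
    (by rw [Nat.card_zpowers, h7]; rfl : Nat.card (zpowers (g ^ p)) = 7 ^ 1)).exists_le_sylow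
  have hDc : Nat.card (D : Subgroup G) = 7 := by
    rw [Sylow.card_eq_multiplicity, hcard]
    have : (604800 : ℕ).factorization 7 = 1 := by
      rw [show (604800 : ℕ) = 7 ^ 1 * 86400 by norm_num, Nat.factorization_mul (by norm_num) (by norm_num),
        Nat.Prime.factorization_pow (by norm_num)]
      simp [Nat.factorization_eq_zero_of_not_dvd (show ¬ 7 ∣ 86400 by norm_num)]
    rw [this]; rfl
  have hDe : zpowers (g ^ p) = (D : Subgroup G) := by
    apply Subgroup.eq_of_le_of_card_ge hD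
    rw [hDc, Nat.card_zpowers, h7]
  obtain ⟨h1, -, -⟩ := Cfsg.Agent.J2Type.ThreeF.sylow_seven h D
  have h2 : g ∈ centralizer ((D : Subgroup G) : Set G) := by
    rw [← hDe, mem_centralizer_iff]
    rintro x ⟨k, rfl⟩
    show (g ^ p) ^ k * g = g * (g ^ p) ^ k
    exact (((Commute.refl g).pow_left p).zpow_left k).eq
  rw [h1] at h2
  have h3 := Subgroup.orderOf_dvd_natCard _ h2
  rw [hDc, hg] at h3
  rcases hp7 with rfl | rfl | rfl <;> revert h3 <;> decide

theorem not_ord_25 (h : Fus z u) (g : G) : orderOf g ≠ 25 := by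
  intro hg
  have : Fact (Nat.Prime 5) := ⟨by norm_num⟩
  obtain ⟨P, hP⟩ := (IsPGroup.of_card (p := 5) (n := 2)
    (by rw [Nat.card_zpowers, hg]; rfl : Nat.card (zpowers g) = 5 ^ 2)).exists_le_sylow
  obtain ⟨-, hc, -, X, Y, hX, hY, hXY, hW⟩ := Cfsg.Agent.J2Type.FiveFus.sylow_five h P
  have hPe : zpowers g = (P : Subgroup G) := by
    apply Subgroup.eq_of_le_of_card_ge hP
    rw [hc, Nat.card_zpowers, hg]
  -- every subgroup of order five is conjugate to `⟨g ^ 5⟩`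
  have key : ∀ X : Subgroup G, Nat.card X = 5 → ∃ c : G, X.map (MulAut.conj c).toMonoidHom = zpowers (g ^ 5) := by
    intro X hX
    obtain ⟨R, hR⟩ := (IsPGroup.of_card (p := 5) (n := 1) (by rw [hX]; rfl : Nat.card X = 5 ^ 1)).exists_le_sylow
    obtain ⟨c, hc'⟩ := MulAction.exists_smul_eq G R P
    have h1 : (R : Subgroup G).map (MulAut.conj c).toMonoidHom = P := by
      rw [← hc']; rfl
    refine ⟨c, ?_⟩
    have h2 : X.map (MulAut.conj c).toMonoidHom ≤ zpowers g := by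
      rw [hPe, ← h1]; exact Subgroup.map_mono hR
    have h3 : Nat.card (X.map (MulAut.conj c).toMonoidHom) = 5 := by
      rw [← hX]
      exact Nat.card_congr (X.equivMapOfInjective _ (MulAut.conj c).injective).toEquiv.symm
    have h4 : X.map (MulAut.conj c).toMonoidHom ≤ zpowers (g ^ 5) := by
      intro y hy
      obtain ⟨k, rfl⟩ := mem_zpowers_iff.1 (h2 hy)
      have h5 : (g ^ k) ^ 5 = 1 := by
        have := pow_card_eq_one' (x := (⟨g ^ k, hy⟩ : X.map (MulAut.conj c).toMonoidHom))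
        rw [h3] at this
        exact congrArg Subtype.val this
      have h6 : (25 : ℤ) ∣ k * 5 := by
        rw [← zpow_natCast, ← zpow_mul] at h5
        have h7 := orderOf_dvd_iff_zpow_eq_one.2 h5
        rw [hg] at h7
        exact_mod_cast h7
      have h7 : (5 : ℤ) ∣ k := by omega
      obtain ⟨l, rfl⟩ := h7
      refine mem_zpowers_iff.2 ⟨l, ?_⟩
      rw [zpow_mul]
      norm_cast
    apply Subgroup.eq_of_le_of_card_ge h4
    rw [h3, Nat.card_zpowers, orderOf_pow_eq hg (by decide : (5:ℕ) ≠ 0) (show 25 = 5 * 5 from rfl)]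
  obtain ⟨c, hcX⟩ := key X hX
  obtain ⟨d, hdY⟩ := key Y hY
  apply hXY (d⁻¹ * c)
  rw [map_mul]
  have e1 : ((MulAut.conj d⁻¹ * MulAut.conj c : MulAut G)).toMonoidHom =
      (MulAut.conj d⁻¹).toMonoidHom.comp (MulAut.conj c).toMonoidHom := rfl
  rw [e1, ← Subgroup.map_map, hcX, ← hdY, Subgroup.map_map]
  have e2 : (MulAut.conj d⁻¹).toMonoidHom.comp (MulAut.conj d).toMonoidHom = MonoidHom.id G := by
    ext x; simp [mul_assoc]
  rw [e2, Subgroup.map_id]

/-- A Sylow 3-subgroup has exponent 3. -/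
theorem not_ord_9 (h : Fus z u) (g : G) : orderOf g ≠ 9 := by
  intro hg
  have : Fact (Nat.Prime 3) := ⟨by norm_num⟩
  obtain ⟨f, U, V, H0, F⟩ := Cfsg.Agent.J2Type.CentU.main h
  obtain ⟨d, hd, hdV, hdH⟩ := Cfsg.Agent.J2Type.ThreeA.exists_d h F
  obtain ⟨P, hPd, hfP, hdP⟩ := Cfsg.Agent.J2Type.ThreeF.exists_sylow h F hd hdH
  obtain ⟨-, h1⟩ := Cfsg.Agent.J2Type.ThreeF.card_normalizer h F hd hdV hdH hPd hfP hdP
  obtain ⟨R, hR⟩ := (IsPGroup.of_card (p := 3) (n := 2)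
    (by rw [Nat.card_zpowers, hg]; rfl : Nat.card (zpowers g) = 3 ^ 2)).exists_le_sylow
  obtain ⟨c, hc⟩ := MulAction.exists_smul_eq G R P
  have h2 : c * g * c⁻¹ ∈ (P : Subgroup G) := by
    rw [← hc]
    exact ⟨g, hR (mem_zpowers g), rfl⟩
  have h3 : orderOf (c * g * c⁻¹) = 9 := by
    rw [← hg]; exact (MulAut.conj c).orderOf_eq g
  by_cases h4 : c * g * c⁻¹ ∈ zpowers d
  · have h5 := orderOf_dvd_of_mem_zpowers h4
    rw [h3, hd] at h5
    revert h5; decide
  · have h5 := h1 _ h2 h4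
    have h6 := Cfsg.Agent.J2Type.Order.orderOf_of_isConj h5
    rw [h3, F.f_ord] at h6
    omega

theorem not_ord_24 (h : Fus z u) (g : G) : orderOf g ≠ 24 := by
  intro hg
  have : Fact (Nat.Prime 2) := ⟨by norm_num⟩
  obtain ⟨f, U, V, H0, F⟩ := Cfsg.Agent.J2Type.CentU.main h
  obtain ⟨d, hd, hdV, hdH⟩ := Cfsg.Agent.J2Type.ThreeA.exists_d h F
  have h8 : orderOf (g ^ 8) = 3 := orderOf_pow_eq hg (by decide) rfl
  have h3 : orderOf (g ^ 3) = 8 := orderOf_pow_eq hg (by decide) rfl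
  have h12 : orderOf (g ^ 12) = 2 := orderOf_pow_eq hg (by decide) rfl
  have hz : IsConj z (g ^ 12) := by
    have e : g ^ 6 * g ^ 6 = g ^ 12 := by rw [← pow_add]
    rw [← e]; apply isConj_of_sq h; rw [e, h12]
  obtain ⟨c, hc⟩ := isConj_iff.1 hz.symm
  have key : ∀ i j : ℕ, (c * g ^ i * c⁻¹) * (c * g ^ j * c⁻¹) = (c * g ^ j * c⁻¹) * (c * g ^ i * c⁻¹) := by
    intro i j
    calc c * g ^ i * c⁻¹ * (c * g ^ j * c⁻¹) = c * (g ^ i * g ^ j) * c⁻¹ := by group
      _ = c * (g ^ j * g ^ i) * c⁻¹ := by rw [← pow_add, ← pow_add, add_comm]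
      _ = _ := by group
  have ord : ∀ i : ℕ, orderOf (c * g ^ i * c⁻¹) = orderOf (g ^ i) := by
    intro i; exact (MulAut.conj c).orderOf_eq (g ^ i)
  have hdz : d * z = z * d := hdH z (F.U_le F.zU)
  obtain ⟨k, hkz, hk⟩ := h.conj3 (c * g ^ 8 * c⁻¹) d (by rw [ord, h8]) hd (by rw [← hc]; exact key 8 12) hdz
  -- the element `x` of order 8 in `C(z) ∩ C(d)`
  set x := k * (c * g ^ 3 * c⁻¹) * k⁻¹ with hx
  have hx8 : orderOf x = 8 := by
    rw [← h3, ← ord 3]; exact (MulAut.conj k).orderOf_eq _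
  have hxd : x * d = d * x := by
    rw [← hk, hx]
    calc k * (c * g ^ 3 * c⁻¹) * k⁻¹ * (k * (c * g ^ 8 * c⁻¹) * k⁻¹) =
        k * ((c * g ^ 3 * c⁻¹) * (c * g ^ 8 * c⁻¹)) * k⁻¹ := by group
      _ = k * ((c * g ^ 8 * c⁻¹) * (c * g ^ 3 * c⁻¹)) * k⁻¹ := by rw [key]
      _ = _ := by group
  have hxz : x * z = z * x := by
    rw [hx]
    have e1 : c * g ^ 3 * c⁻¹ * z = z * (c * g ^ 3 * c⁻¹) := by rw [← hc]; exact key 3 12
    have e2 : k⁻¹ * z = z * k⁻¹ := by
      have := hkz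
      calc k⁻¹ * z = k⁻¹ * (z * k) * k⁻¹ := by group
        _ = k⁻¹ * (k * z) * k⁻¹ := by rw [this]
        _ = _ := by group
    calc k * (c * g ^ 3 * c⁻¹) * k⁻¹ * z = k * (c * g ^ 3 * c⁻¹) * (k⁻¹ * z) := by group
      _ = k * (c * g ^ 3 * c⁻¹ * z) * k⁻¹ := by rw [e2]; group
      _ = (k * z) * (c * g ^ 3 * c⁻¹) * k⁻¹ := by rw [e1]; group
      _ = z * (k * (c * g ^ 3 * c⁻¹) * k⁻¹) := by rw [hkz]; group
  -- `K = C(z) ∩ C(d)` has order 24 and contains `U` and `x`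
  set K : Subgroup G := centralizer ({z} : Set G) ⊓ centralizer ({d} : Set G) with hK
  have hKc : Nat.card K = 24 := h.card24 d hd hdz
  have hUK : U ≤ K := by
    intro y hy
    exact ⟨mem_centralizer_singleton_iff.2 (Cfsg.Agent.J2Type.Cent5.comm_U h F hy F.zU),
      mem_centralizer_singleton_iff.2 (hdH y (F.U_le hy)).symm⟩
  have hxK : x ∈ K := ⟨mem_centralizer_singleton_iff.2 hxz, mem_centralizer_singleton_iff.2 hxd⟩
  -- Sylow 2-subgroups of `K`
  let UK : Subgroup K := U.subgroupOf K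
  have hUKc : Nat.card UK = 4 := by
    rw [Nat.card_congr (subgroupOfEquivOfLe hUK).toEquiv, F.cardU]
  let xK : K := ⟨x, hxK⟩
  have hxKo : orderOf xK = 8 := (Subgroup.orderOf_mk _ _).trans hx8
  obtain ⟨S, hS⟩ := (IsPGroup.of_card (p := 2) (n := 2) (by rw [hUKc]; rfl : Nat.card UK = 2 ^ 2)).exists_le_sylow
  obtain ⟨T, hT⟩ := (IsPGroup.of_card (p := 2) (n := 3)
    (by rw [Nat.card_zpowers, hxKo]; rfl : Nat.card (zpowers xK) = 2 ^ 3)).exists_le_sylow
  have hTc : Nat.card (T : Subgroup K) = 8 := by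
    rw [Sylow.card_eq_multiplicity, hKc]
    have : (24 : ℕ).factorization 2 = 3 := by
      rw [show (24 : ℕ) = 2 ^ 3 * 3 by norm_num, Nat.factorization_mul (by norm_num) (by norm_num),
        Nat.Prime.factorization_pow (by norm_num)]
      simp [Nat.factorization_eq_zero_of_not_dvd (show ¬ 2 ∣ 3 by norm_num)]
    rw [this]; rfl
  have hTe : zpowers xK = (T : Subgroup K) := by
    apply Subgroup.eq_of_le_of_card_ge hT
    rw [hTc, Nat.card_zpowers, hxKo]
  obtain ⟨a, ha⟩ := MulAction.exists_smul_eq K S T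
  -- the image of `U` in the cyclic group `T`
  have h1 : ∀ y ∈ UK, a * y * a⁻¹ ∈ zpowers xK := by
    intro y hy
    rw [hTe, ← ha]
    exact ⟨y, hS hy, rfl⟩
  have h2 : ∀ y ∈ UK, a * y * a⁻¹ ∈ zpowers (xK ^ 4) := by
    intro y hy
    obtain ⟨l, hl⟩ := mem_zpowers_iff.1 (h1 y hy)
    have hyy : y * y = 1 := by
      apply Subtype.ext
      exact Cfsg.Agent.J2Type.Cent5.sq_U h F hy
    have h5 : xK ^ (l * 2) = 1 := by
      rw [zpow_mul, hl]
      have : a * y * a⁻¹ * (a * y * a⁻¹) = 1 := by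
        calc a * y * a⁻¹ * (a * y * a⁻¹) = a * (y * y) * a⁻¹ := by group
          _ = 1 := by rw [hyy]; group
      rw [zpow_two]; exact this
    have h7 := orderOf_dvd_iff_zpow_eq_one.2 h5
    rw [hxKo] at h7
    have h8 : (4 : ℤ) ∣ l := by omega
    obtain ⟨m, rfl⟩ := h8
    refine mem_zpowers_iff.2 ⟨m, ?_⟩
    rw [← hl, zpow_mul]
    norm_cast
  have h4 : UK.map (MulAut.conj a).toMonoidHom ≤ zpowers (xK ^ 4) := by
    rintro _ ⟨y, hy, rfl⟩
    exact h2 y hy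
  have h5 := Subgroup.card_le_of_le h4
  rw [Nat.card_congr (UK.equivMapOfInjective _ (MulAut.conj a).injective).toEquiv.symm, hUKc,
    Nat.card_zpowers, orderOf_pow_eq hxKo (by decide : (4:ℕ) ≠ 0) (show 8 = 2 * 4 from rfl)] at h5
  omega

end

section

open Cfsg.Agent.J2Type.Model Cfsg.Agent.J2Type.SPFacts Cfsg.Agent.KFacts.J2.Basic

variable {G : Type*} [Group G] [Finite G] {t u : G} {Q : Subgroup (centralizer ({t} : Set G))}
  {v : Fin 5 → centralizer ({t} : Set G)} {ρ : centralizer ({t} : Set G) →* SP}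

theorem perm5_aux : ∀ σ : Equiv.Perm (Fin 5), Equiv.Perm.sign σ = 1 → σ ^ 16 = 1 → σ ^ 2 = 1 := by
  decide +kernel

theorem Q_pow4 {C : Type*} [Group C] {Q : Subgroup C} {z : C} {v : Fin 5 → C} {ρ : C →* SP}
    (M : IsModel Q z v ρ) {q : C} (hq : q ∈ Q) : q ^ 4 = 1 := by
  have h01 : ∀ a : ZMod 2, a = 0 ∨ a = 1 := by decide
  have hzp : ∀ a : ZMod 2, zp z a * zp z a = 1 := by
    intro a
    rcases h01 a with rfl | rfl
    · rw [zp_zero, one_mul]
    · rw [zp_one, M.z_sq]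
  have hcm : ∀ (a : ZMod 2) (w : C), w * zp z a = zp z a * w := by
    intro a w
    rcases h01 a with rfl | rfl
    · rw [zp_zero, one_mul, mul_one]
    · rw [zp_one, M.z_comm]
  rcases M.cover _ hq with ⟨a, ha⟩ | ⟨a, i, ha⟩ | ⟨a, i, j, hij, ha⟩
  · rw [ha, show (4:ℕ) = 2 * 2 from rfl, pow_mul, pow_two (zp _ a), hzp, one_pow]
  · rw [ha, show (4:ℕ) = 2 * 2 from rfl, pow_mul, pow_two (zp _ a * v i)]
    have : zp z a * v i * (zp z a * v i) = 1 := by
      calc _ = zp z a * (v i * zp z a) * v i := by group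
        _ = (zp z a * zp z a) * (v i * v i) := by rw [hcm]; group
        _ = 1 := by rw [hzp, M.v_sq, one_mul]
    rw [this, one_pow]
  · have hs : (v i * v j) * (v i * v j) = z := Cfsg.Agent.J2Type.CStruct.vv_sq M hij.ne
    rw [ha, show (4:ℕ) = 2 * 2 from rfl, pow_mul, pow_two (zp _ a * (v i * v j))]
    have : zp z a * (v i * v j) * (zp z a * (v i * v j)) = z := by
      calc _ = zp z a * ((v i * v j) * zp z a) * (v i * v j) := by group
        _ = (zp z a * zp z a) * ((v i * v j) * (v i * v j)) := by rw [hcm]; group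
        _ = _ := by rw [hzp, hs, one_mul]
    rw [this, pow_two, M.z_sq]

theorem not_ord_16 (D : Dat t u Q v ρ) (g : G) : orderOf g ≠ 16 := by
  intro hg
  have h8 : orderOf (g ^ 8) = 2 := orderOf_pow_eq hg (by decide) rfl
  have hz : IsConj t (g ^ 8) := by
    have e : g ^ 4 * g ^ 4 = g ^ 8 := by rw [← pow_add]
    rw [← e]; apply isConj_of_sq D.F; rw [e, h8]
  obtain ⟨c, hc⟩ := isConj_iff.1 hz.symm
  set x := c * g * c⁻¹ with hx
  have hx16 : orderOf x = 16 := by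
    rw [← hg]; exact (MulAut.conj c).orderOf_eq g
  have hxt : x * t = t * x := by
    rw [← hc, hx]
    calc c * g * c⁻¹ * (c * g ^ 8 * c⁻¹) = c * (g * g ^ 8) * c⁻¹ := by group
      _ = c * (g ^ 8 * g) * c⁻¹ := by rw [← pow_succ', ← pow_succ]
      _ = _ := by group
  let y : centralizer ({t} : Set G) := ⟨x, mem_centralizer_singleton_iff.2 hxt⟩
  have hy16 : orderOf y = 16 := (Subgroup.orderOf_mk _ _).trans hx16
  have M := D.M
  have hsign : Equiv.Perm.sign (ρ y).σ = 1 := ((M.range (ρ y)).1 ⟨y, rfl⟩).1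
  have hσ : ∀ n : ℕ, (ρ (y ^ n)).σ = (ρ y).σ ^ n := by
    intro n
    induction n with
    | zero => rw [pow_zero, pow_zero, map_one]; rfl
    | succ n ih => rw [pow_succ, pow_succ, map_mul, ← ih]; rfl
  have h16 : (ρ y).σ ^ 16 = 1 := by
    rw [← hσ, ← hy16, pow_orderOf_eq_one, map_one]; rfl
  have h2 : y ^ 2 ∈ Q := by
    rw [M.mem_Q, hσ]; exact perm5_aux _ hsign h16
  have h4 : (y ^ 2) ^ 4 = 1 := Q_pow4 M h2
  rw [← pow_mul] at h4
  have h5 := orderOf_dvd_of_pow_eq_one h4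
  rw [hy16] at h5
  revert h5; decide

theorem dvd_drop {p k j m n : ℕ} (hp : p.Prime) (h : n ∣ p ^ j * m) (hk : ¬ p ^ (k + 1) ∣ n) (hn : n ≠ 0) :
    n ∣ p ^ k * m := by
  obtain ⟨a, n', hn', rfl⟩ := Nat.exists_eq_pow_mul_and_not_dvd hn p hp.ne_one
  have ha : a ≤ k := by
    by_contra hlt
    exact hk (dvd_mul_of_dvd_left (pow_dvd_pow p (by omega)) _)
  have h1 : Nat.Coprime n' (p ^ j) := by
    apply Nat.Coprime.pow_right
    exact ((Nat.Prime.coprime_iff_not_dvd hp).2 hn').symm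
  have h2 : n' ∣ m := by
    have : n' ∣ p ^ j * m := (Dvd.intro_left _ rfl).trans h
    exact h1.dvd_of_dvd_mul_left this
  exact mul_dvd_mul (pow_dvd_pow p ha) h2

theorem list_aux : ∀ n ∈ Nat.divisors 840, ¬ 14 ∣ n → ¬ 21 ∣ n → ¬ 35 ∣ n → ¬ 24 ∣ n → ¬ 20 ∣ n → ¬ 30 ∣ n →
    n ∈ ({1, 2, 3, 4, 5, 6, 7, 8, 10, 12, 15} : Finset ℕ) := by
  decide +kernel

/-- **The element orders of a group of Hall–Janko type.** -/
theorem orders_mem (D : Dat t u Q v ρ) (g : G) : orderOf g ∈ ({1, 2, 3, 4, 5, 6, 7, 8, 10, 12, 15} : Finset ℕ) := by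
  have hcard : Nat.card G = 604800 := D.card
  have h0 : orderOf g ∣ 604800 := by rw [← hcard]; exact orderOf_dvd_natCard g
  have hne : orderOf g ≠ 0 := (orderOf_pos g).ne'
  have ex : ∀ m, (∀ x : G, orderOf x ≠ m) → ¬ m ∣ orderOf g := by
    intro m hm hd
    obtain ⟨k, hk⟩ := exists_pow_orderOf g hd
    exact hm _ hk
  have e16 := ex 16 (not_ord_16 D)
  have e9 := ex 9 (not_ord_9 D.F)
  have e25 := ex 25 (not_ord_25 D.F)
  have h1 : orderOf g ∣ 2 ^ 3 * 4725 := dvd_drop (j := 7) Nat.prime_two (by norm_num; exact h0) e16 hne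
  have h2 : orderOf g ∣ 3 ^ 1 * 1400 := dvd_drop (j := 3) Nat.prime_three (by norm_num at h1 ⊢; exact h1) e9 hne
  have h3 : orderOf g ∣ 5 ^ 1 * 168 := dvd_drop (j := 2) Nat.prime_five (by norm_num at h2 ⊢; exact h2) e25 hne
  apply list_aux
  · rw [Nat.mem_divisors]; exact ⟨by norm_num at h3 ⊢; exact h3, by norm_num⟩
  · exact ex 14 fun x => not_ord_7 D.F x (p := 2) (by norm_num) (Or.inl rfl)
  · exact ex 21 fun x => not_ord_7 D.F x (p := 3) (by norm_num) (Or.inr (Or.inl rfl))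
  · exact ex 35 fun x => not_ord_7 D.F x (p := 5) (by norm_num) (Or.inr (Or.inr rfl))
  · exact ex 24 (not_ord_24 D.F)
  · exact ex 20 (not_ord_20 D.F)
  · exact ex 30 (not_ord_30 D.F)

end

end Cfsg.Agent.H379.J2Orders
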