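import Cfsg.Agent.H379.PermOrders

/-!
# The group `2⁶ : A₈` (the heart of the permutation module) and its element orders

`H` is the subgroup of `(Fin 8 × Fin 8 → ZMod 2) ⋊ Perm (Fin 8)` of the pairs `(d w, g)` with
`w : Fin 8 → ZMod 2` of even weight, `d w (i, j) = w i + w j`, and `g` even.
`range_H`: its set of element orders is {1, 2, 3, 4, 5, 6, 7, 8, 10, 12, 15}.
-/

set_option autoImplicit false

namespace Cfsg.Agent.H379.HeartA8

open Equiv Cfsg.Agent.H379.PermOrders

/-- the functions on pairs, multiplicatively -/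
abbrev A : Type := Multiplicative (Fin 8 × Fin 8 → ZMod 2)

/-- the action of permutations on functions on pairs -/
def act : Perm (Fin 8) →* MulAut A where
  toFun g :=
    { toFun := fun f => Multiplicative.ofAdd fun p => (Multiplicative.toAdd f) (g⁻¹ p.1, g⁻¹ p.2)
      invFun := fun f => Multiplicative.ofAdd fun p => (Multiplicative.toAdd f) (g p.1, g p.2)
      left_inv := by
        intro f
        apply Multiplicative.toAdd.injective
        funext p
        simp
      right_inv := by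
        intro f
        apply Multiplicative.toAdd.injective
        funext p
        simp
      map_mul' := by
        intro f f'
        rfl }
  map_one' := by
    ext f
    rfl
  map_mul' := by
    intro g h
    ext f
    rfl

/-- the big group -/
abbrev B : Type := A ⋊[act] Perm (Fin 8)

/-- the function on pairs of a function -/
def d (w : Fin 8 → ZMod 2) : Fin 8 × Fin 8 → ZMod 2 := fun p => w p.1 + w p.2

theorem d_add (w w' : Fin 8 → ZMod 2) : d (w + w') = d w + d w' := by
  funext p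
  simp only [d, Pi.add_apply]
  ring

theorem two_zero (a : ZMod 2) : a + a = 0 := by revert a; decide

/-- the trace of `w` over the first `n` powers of `g` -/
def T (n : ℕ) (g : Perm (Fin 8)) (w : Fin 8 → ZMod 2) : Fin 8 → ZMod 2 :=
  fun i => ((List.range n).map fun k => w ((g ^ k)⁻¹ i)).sum

theorem T_zero (g : Perm (Fin 8)) (w : Fin 8 → ZMod 2) : T 0 g w = 0 := rfl

theorem T_succ (n : ℕ) (g : Perm (Fin 8)) (w : Fin 8 → ZMod 2) :
    T (n + 1) g w = T n g w + fun i => w ((g ^ n)⁻¹ i) := by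
  funext i
  simp [T, List.range_succ]

theorem pow_right (x : B) (n : ℕ) : (x ^ n).right = x.right ^ n := by
  induction n with
  | zero => rfl
  | succ n ih => rw [pow_succ, pow_succ, SemidirectProduct.mul_right, ih]

theorem pow_left (x : B) (w : Fin 8 → ZMod 2) (hx : x.left = Multiplicative.ofAdd (d w)) (n : ℕ) :
    (x ^ n).left = Multiplicative.ofAdd (d (T n x.right w)) := by
  induction n with
  | zero =>
    rw [T_zero]
    apply Multiplicative.toAdd.injective
    funext p
    simp [d]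
  | succ n ih =>
    rw [pow_succ, SemidirectProduct.mul_left, ih, T_succ, d_add, pow_right, hx]
    rfl

theorem conj_T (n : ℕ) (g p : Perm (Fin 8)) (w : Fin 8 → ZMod 2) (i : Fin 8) :
    T n (p * g * p⁻¹) w (p i) = T n g (fun j => w (p j)) i := by
  unfold T
  congr 1
  apply List.map_congr_left
  intro k _
  congr 1
  have : (p * g * p⁻¹) ^ k = p * g ^ k * p⁻¹ := by
    rw [← MulAut.conj_apply, ← MulAut.conj_apply, map_pow]
  rw [this]
  simp

/-- the trace of even functions over `n` powers of `g` is constant -/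
def Cst (n : ℕ) (g : Perm (Fin 8)) : Prop :=
  ∀ w : Fin 8 → ZMod 2, ∑ i, w i = 0 → ∀ i j, T n g w i = T n g w j

theorem Cst.conj {n : ℕ} {g : Perm (Fin 8)} (h : Cst n g) (p : Perm (Fin 8)) : Cst n (p * g * p⁻¹) := by
  intro w hw i j
  obtain ⟨i, rfl⟩ := p.surjective i
  obtain ⟨j, rfl⟩ := p.surjective j
  rw [conj_T, conj_T]
  apply h
  rw [← hw]
  exact Equiv.sum_comp p w

/-- a 7-cycle -/
def c7 : Perm (Fin 8) := c[0, 1, 2, 3, 4, 5, 6]
/-- an element of order 15 -/
def c15 : Perm (Fin 8) := c[0, 1, 2] * c[3, 4, 5, 6, 7]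

/-- table -/
def t7 (i : Fin 8) : List (Fin 8) := match i with
  | 0 => [0, 6, 5, 4, 3, 2, 1]
  | 1 => [1, 0, 6, 5, 4, 3, 2]
  | 2 => [2, 1, 0, 6, 5, 4, 3]
  | 3 => [3, 2, 1, 0, 6, 5, 4]
  | 4 => [4, 3, 2, 1, 0, 6, 5]
  | 5 => [5, 4, 3, 2, 1, 0, 6]
  | 6 => [6, 5, 4, 3, 2, 1, 0]
  | 7 => [7, 7, 7, 7, 7, 7, 7]

/-- table -/
def t15 (i : Fin 8) : List (Fin 8) := match i with
  | 0 => [0, 2, 1, 0, 2, 1, 0, 2, 1, 0, 2, 1, 0, 2, 1]
  | 1 => [1, 0, 2, 1, 0, 2, 1, 0, 2, 1, 0, 2, 1, 0, 2]
  | 2 => [2, 1, 0, 2, 1, 0, 2, 1, 0, 2, 1, 0, 2, 1, 0]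
  | 3 => [3, 7, 6, 5, 4, 3, 7, 6, 5, 4, 3, 7, 6, 5, 4]
  | 4 => [4, 3, 7, 6, 5, 4, 3, 7, 6, 5, 4, 3, 7, 6, 5]
  | 5 => [5, 4, 3, 7, 6, 5, 4, 3, 7, 6, 5, 4, 3, 7, 6]
  | 6 => [6, 5, 4, 3, 7, 6, 5, 4, 3, 7, 6, 5, 4, 3, 7]
  | 7 => [7, 6, 5, 4, 3, 7, 6, 5, 4, 3, 7, 6, 5, 4, 3]

theorem tab7 : ∀ i : Fin 8, (List.range 7).map (fun k => (c7 ^ k)⁻¹ i) = t7 i := by decide +kernel
theorem tab15 : ∀ i : Fin 8, (List.range 15).map (fun k => (c15 ^ k)⁻¹ i) = t15 i := by decide +kernel

theorem T_eq {n : ℕ} {g : Perm (Fin 8)} {t : Fin 8 → List (Fin 8)}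
    (h : ∀ i : Fin 8, (List.range n).map (fun k => (g ^ k)⁻¹ i) = t i) (w : Fin 8 → ZMod 2) (i : Fin 8) :
    T n g w i = ((t i).map w).sum := by
  rw [← h, List.map_map]
  rfl

theorem aux7 : ∀ a0 a1 a2 a3 a4 a5 a6 a7 : ZMod 2, a0 + a1 + a2 + a3 + a4 + a5 + a6 + a7 = 0 →
    a0 + a1 + a2 + a3 + a4 + a5 + a6 = a7 := by decide +kernel

theorem seven (a : ZMod 2) : a + (a + (a + (a + (a + (a + a))))) = a := by revert a; decide

theorem cst7 : Cst 7 c7 := by
  have key : ∀ w : Fin 8 → ZMod 2, ∑ i, w i = 0 → ∀ i, T 7 c7 w i = w 7 := by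
    intro w hw i
    rw [T_eq tab7]
    rw [Fin.sum_univ_eight] at hw
    have h1 := aux7 _ _ _ _ _ _ _ _ hw
    fin_cases i
    all_goals simp only [t7, List.map_cons, List.map_nil, List.sum_cons, List.sum_nil, add_zero]
    all_goals first
      | exact seven _
      | (rw [← h1]; ring1)
  intro w hw i j
  rw [key w hw, key w hw]

theorem aux15 : ∀ a0 a1 a2 a3 a4 a5 a6 a7 : ZMod 2, a0 + a1 + a2 + a3 + a4 + a5 + a6 + a7 = 0 →
    (a3 + a4 + a5 + a6 + a7) + (a3 + a4 + a5 + a6 + a7) + (a3 + a4 + a5 + a6 + a7) = a0 + a1 + a2 := by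
  decide +kernel

theorem five (a : ZMod 2) : a + a + a + a + a = a := by revert a; decide

theorem cst15 : Cst 15 c15 := by
  have key : ∀ w : Fin 8 → ZMod 2, ∑ i, w i = 0 → ∀ i, T 15 c15 w i = w 0 + w 1 + w 2 := by
    intro w hw i
    rw [T_eq tab15]
    rw [Fin.sum_univ_eight] at hw
    have h1 := aux15 _ _ _ _ _ _ _ _ hw
    have h5 := five (w 0 + w 1 + w 2)
    fin_cases i
    all_goals simp only [t15, List.map_cons, List.map_nil, List.sum_cons, List.sum_nil, add_zero]
    all_goals first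
      | (rw [← h1]; ring1)
      | (conv_rhs => rw [← h5]
         ring1)
  intro w hw i j
  rw [key w hw, key w hw]

/-- the even-weight elements with even permutation -/
def H : Subgroup B where
  carrier := {x | (∃ w : Fin 8 → ZMod 2, ∑ i, w i = 0 ∧ x.left = Multiplicative.ofAdd (d w)) ∧
    Perm.sign x.right = 1}
  one_mem' := by
    refine ⟨⟨0, by simp, ?_⟩, by simp⟩
    apply Multiplicative.toAdd.injective
    funext p
    simp [d]
  mul_mem' := by
    rintro x y ⟨⟨w, hw, hx⟩, hx'⟩ ⟨⟨w', hw', hy⟩, hy'⟩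
    refine ⟨⟨w + fun i => w' (x.right⁻¹ i), ?_, ?_⟩, ?_⟩
    · have h1 : ∑ i, w' (x.right⁻¹ i) = 0 := by rw [← hw']; exact Equiv.sum_comp x.right⁻¹ w'
      simp only [Pi.add_apply, Finset.sum_add_distrib, hw, h1, add_zero]
    · rw [SemidirectProduct.mul_left, hx, hy, d_add]
      rfl
    · rw [SemidirectProduct.mul_right, map_mul, hx', hy', one_mul]
  inv_mem' := by
    rintro x ⟨⟨w, hw, hx⟩, hx'⟩
    refine ⟨⟨fun i => w (x.right i), ?_, ?_⟩, ?_⟩
    · rw [← hw]; exact Equiv.sum_comp x.right w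
    · rw [SemidirectProduct.inv_left, hx]
      apply Multiplicative.toAdd.injective
      funext p
      have h1 : ∀ a b : ZMod 2, -(a + b) = a + b := by decide
      show -(d w ((x.right⁻¹)⁻¹ p.1, (x.right⁻¹)⁻¹ p.2)) = d (fun i => w (x.right i)) p
      rw [inv_inv]
      simp only [d]
      exact h1 _ _
    · rw [SemidirectProduct.inv_right, map_inv, hx', inv_one]

theorem d_const {w : Fin 8 → ZMod 2} (h : ∀ i j, w i = w j) : d w = 0 := by
  funext p
  simp only [d, Pi.zero_apply]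
  rw [h p.1 p.2]
  exact two_zero _

theorem ext_one {x : B} (h1 : x.left = 1) (h2 : x.right = 1) : x = 1 := SemidirectProduct.ext h1 h2

/-- If the permutation has order `n` and the traces are constant, the `n`-th power is 1. -/
theorem pow_eq_one {x : B} (hx : x ∈ H) {n : ℕ} (hn : x.right ^ n = 1) (hc : Cst n x.right) : x ^ n = 1 := by
  obtain ⟨⟨w, hw, hl⟩, -⟩ := hx
  apply ext_one
  · rw [pow_left x w hl, d_const (hc w hw)]
    rfl
  · rw [pow_right, hn]

theorem pow_two_mul {x : B} (hx : x ∈ H) {n : ℕ} (hn : x.right ^ n = 1) : x ^ (n * 2) = 1 := by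
  obtain ⟨⟨w, hw, hl⟩, -⟩ := hx
  rw [pow_mul, pow_two]
  apply ext_one
  · rw [SemidirectProduct.mul_left, pow_right, hn, map_one, pow_left x w hl]
    apply Multiplicative.toAdd.injective
    funext p
    exact two_zero _
  · rw [SemidirectProduct.mul_right, pow_right, hn, one_mul]

theorem orderOf_right_dvd (x : B) : orderOf x.right ∣ orderOf x := by
  rw [orderOf_dvd_iff_pow_eq_one, ← pow_right, pow_orderOf_eq_one]
  rfl

/-- the parity of a list of cycle lengths -/
theorem lcm_even (s : Multiset ℕ) (h2 : ∀ x ∈ s, 2 ≤ x) (h8 : s.sum ≤ 8) (he : Even (s.sum + Multiset.card s)) :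
    s.lcm ∈ ({1, 2, 3, 4, 5, 6, 7, 15} : Finset ℕ) := by
  rcases s.empty_or_exists_mem with rfl | ⟨a, ha⟩
  · simp
  obtain ⟨s, rfl⟩ := Multiset.exists_cons_of_mem ha
  have ha2 := h2 a (Multiset.mem_cons_self _ _)
  rcases s.empty_or_exists_mem with rfl | ⟨b, hb⟩
  · simp only [Multiset.sum_cons, Multiset.sum_zero, Multiset.card_cons, Multiset.card_zero] at h8 he
    have : a ≤ 8 := by omega
    interval_cases a <;> revert he <;> decide
  obtain ⟨s, rfl⟩ := Multiset.exists_cons_of_mem hb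
  have hb2 := h2 b (Multiset.mem_cons_of_mem (Multiset.mem_cons_self _ _))
  rcases s.empty_or_exists_mem with rfl | ⟨c, hc⟩
  · simp only [Multiset.sum_cons, Multiset.sum_zero, Multiset.card_cons, Multiset.card_zero] at h8 he
    have h9 : a ≤ 6 := by omega
    have h10 : b ≤ 6 := by omega
    interval_cases a <;> interval_cases b <;> first | omega | (revert he; decide)
  obtain ⟨s, rfl⟩ := Multiset.exists_cons_of_mem hc
  have hc2 := h2 c (Multiset.mem_cons_of_mem (Multiset.mem_cons_of_mem (Multiset.mem_cons_self _ _)))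
  rcases s.empty_or_exists_mem with rfl | ⟨e, hd⟩
  · simp only [Multiset.sum_cons, Multiset.sum_zero, Multiset.card_cons, Multiset.card_zero] at h8 he
    have h9 : a ≤ 4 := by omega
    have h10 : b ≤ 4 := by omega
    have h11 : c ≤ 4 := by omega
    interval_cases a <;> interval_cases b <;> interval_cases c <;> first | omega | (revert he; decide)
  obtain ⟨s, rfl⟩ := Multiset.exists_cons_of_mem hd
  have hd2 := h2 e (Multiset.mem_cons_of_mem (Multiset.mem_cons_of_mem (Multiset.mem_cons_of_mem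
    (Multiset.mem_cons_self _ _))))
  rcases s.empty_or_exists_mem with rfl | ⟨f, he'⟩
  · simp only [Multiset.sum_cons, Multiset.sum_zero] at h8
    have h9 : a = 2 := by omega
    have h10 : b = 2 := by omega
    have h11 : c = 2 := by omega
    have h12 : e = 2 := by omega
    subst h9 h10 h11 h12
    decide
  obtain ⟨s, rfl⟩ := Multiset.exists_cons_of_mem he'
  have he2 := h2 f (Multiset.mem_cons_of_mem (Multiset.mem_cons_of_mem (Multiset.mem_cons_of_mem
    (Multiset.mem_cons_of_mem (Multiset.mem_cons_self _ _)))))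
  simp only [Multiset.sum_cons] at h8
  omega

theorem orders_A8 {g : Perm (Fin 8)} (hg : Perm.sign g = 1) :
    orderOf g ∈ ({1, 2, 3, 4, 5, 6, 7, 15} : Finset ℕ) := by
  rw [← Perm.lcm_cycleType g]
  apply lcm_even
  · exact fun x hx => Perm.two_le_of_mem_cycleType hx
  · rw [Perm.sum_cycleType]
    exact (Finset.card_le_univ _).trans (by simp)
  · rw [Perm.sign_of_cycleType] at hg
    by_contra h
    rw [Nat.not_even_iff_odd] at h
    rw [h.neg_one_pow] at hg
    revert hg; decide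

/-- A multiset of cycle lengths with least common multiple 7 or 15. -/
theorem lcm_7_15 (s : Multiset ℕ) (h2 : ∀ x ∈ s, 2 ≤ x) (h8 : s.sum ≤ 8) :
    (s.lcm = 7 → s = {7}) ∧ (s.lcm = 15 → s = {3, 5}) := by
  rcases s.empty_or_exists_mem with rfl | ⟨a, ha⟩
  · simp
  obtain ⟨s, rfl⟩ := Multiset.exists_cons_of_mem ha
  have ha2 := h2 a (Multiset.mem_cons_self _ _)
  rcases s.empty_or_exists_mem with rfl | ⟨b, hb⟩
  · simp only [Multiset.sum_cons, Multiset.sum_zero] at h8
    have : a ≤ 8 := by omega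
    interval_cases a <;> decide
  obtain ⟨s, rfl⟩ := Multiset.exists_cons_of_mem hb
  have hb2 := h2 b (Multiset.mem_cons_of_mem (Multiset.mem_cons_self _ _))
  rcases s.empty_or_exists_mem with rfl | ⟨c, hc⟩
  · simp only [Multiset.sum_cons, Multiset.sum_zero] at h8
    have h9 : a ≤ 6 := by omega
    have h10 : b ≤ 6 := by omega
    interval_cases a <;> interval_cases b <;> first | omega | decide
  obtain ⟨s, rfl⟩ := Multiset.exists_cons_of_mem hc
  have hc2 := h2 c (Multiset.mem_cons_of_mem (Multiset.mem_cons_of_mem (Multiset.mem_cons_self _ _)))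
  rcases s.empty_or_exists_mem with rfl | ⟨e, hd⟩
  · simp only [Multiset.sum_cons, Multiset.sum_zero] at h8
    have h9 : a ≤ 4 := by omega
    have h10 : b ≤ 4 := by omega
    have h11 : c ≤ 4 := by omega
    interval_cases a <;> interval_cases b <;> interval_cases c <;> first | omega | decide
  obtain ⟨s, rfl⟩ := Multiset.exists_cons_of_mem hd
  have hd2 := h2 e (Multiset.mem_cons_of_mem (Multiset.mem_cons_of_mem (Multiset.mem_cons_of_mem
    (Multiset.mem_cons_self _ _))))
  rcases s.empty_or_exists_mem with rfl | ⟨f, he'⟩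
  · simp only [Multiset.sum_cons, Multiset.sum_zero] at h8
    have h9 : a = 2 := by omega
    have h10 : b = 2 := by omega
    have h11 : c = 2 := by omega
    have h12 : e = 2 := by omega
    subst h9 h10 h11 h12
    decide
  obtain ⟨s, rfl⟩ := Multiset.exists_cons_of_mem he'
  have he2 := h2 f (Multiset.mem_cons_of_mem (Multiset.mem_cons_of_mem (Multiset.mem_cons_of_mem
    (Multiset.mem_cons_of_mem (Multiset.mem_cons_self _ _)))))
  simp only [Multiset.sum_cons] at h8
  omega

theorem ct7 : Perm.cycleType c7 = {7} := by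
  have h : orderOf c7 = 7 := ord7 (by decide +kernel) (by decide +kernel)
  refine (lcm_7_15 _ (fun x hx => Perm.two_le_of_mem_cycleType hx) ?_).1 (by rw [Perm.lcm_cycleType, h])
  rw [Perm.sum_cycleType]
  exact (Finset.card_le_univ _).trans (by simp)

theorem ct15 : Perm.cycleType c15 = {3, 5} := by
  have h : orderOf c15 = 15 := ord15 (by decide +kernel) (by decide +kernel) (by decide +kernel)
  refine (lcm_7_15 _ (fun x hx => Perm.two_le_of_mem_cycleType hx) ?_).2 (by rw [Perm.lcm_cycleType, h])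
  rw [Perm.sum_cycleType]
  exact (Finset.card_le_univ _).trans (by simp)

theorem cst_of_7 {g : Perm (Fin 8)} (h : orderOf g = 7) : Cst 7 g := by
  have h1 : g.cycleType = {7} := by
    refine (lcm_7_15 _ (fun x hx => Perm.two_le_of_mem_cycleType hx) ?_).1 (by rw [Perm.lcm_cycleType, h])
    rw [Perm.sum_cycleType]
    exact (Finset.card_le_univ _).trans (by simp)
  obtain ⟨p, rfl⟩ := isConj_iff.1 (Perm.isConj_iff_cycleType_eq.2 (ct7.trans h1.symm))
  exact cst7.conj p

theorem cst_of_15 {g : Perm (Fin 8)} (h : orderOf g = 15) : Cst 15 g := by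
  have h1 : g.cycleType = {3, 5} := by
    refine (lcm_7_15 _ (fun x hx => Perm.two_le_of_mem_cycleType hx) ?_).2 (by rw [Perm.lcm_cycleType, h])
    rw [Perm.sum_cycleType]
    exact (Finset.card_le_univ _).trans (by simp)
  obtain ⟨p, rfl⟩ := isConj_iff.1 (Perm.isConj_iff_cycleType_eq.2 (ct15.trans h1.symm))
  exact cst15.conj p

theorem dvd_aux : ∀ n ∈ Finset.range 13, (n ∣ 2 ∨ n ∣ 4 ∨ n ∣ 6 ∨ n ∣ 8 ∨ n ∣ 10 ∨ n ∣ 12) →
    n ∈ ({1, 2, 3, 4, 5, 6, 7, 8, 10, 12, 15} : Finset ℕ) := by decide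

theorem orders_H (x : H) : orderOf x ∈ ({1, 2, 3, 4, 5, 6, 7, 8, 10, 12, 15} : Finset ℕ) := by
  rw [← Subgroup.orderOf_coe]
  have h1 := orders_A8 x.2.2
  have h2 := orderOf_right_dvd (x : B)
  have h3 : orderOf (x : B) ∣ orderOf (x : B).right * 2 :=
    orderOf_dvd_of_pow_eq_one (pow_two_mul x.2 (pow_orderOf_eq_one _))
  simp only [Finset.mem_insert, Finset.mem_singleton] at h1
  have small : ∀ m, m ≤ 12 → 0 < m → (orderOf (x : B) ∣ m) → (m = 2 ∨ m = 4 ∨ m = 6 ∨ m = 8 ∨ m = 10 ∨ m = 12) →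
      orderOf (x : B) ∈ ({1, 2, 3, 4, 5, 6, 7, 8, 10, 12, 15} : Finset ℕ) := by
    intro m hm hm0 hd hm'
    apply dvd_aux
    · rw [Finset.mem_range]
      exact Nat.lt_succ_of_le ((Nat.le_of_dvd hm0 hd).trans hm)
    · rcases hm' with rfl | rfl | rfl | rfl | rfl | rfl <;> tauto
  rcases h1 with h | h | h | h | h | h | h | h
  · exact small 2 (by norm_num) (by norm_num) (by rw [h] at h3; exact h3) (by tauto)
  · exact small 4 (by norm_num) (by norm_num) (by rw [h] at h3; exact h3) (by tauto)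
  · exact small 6 (by norm_num) (by norm_num) (by rw [h] at h3; exact h3) (by tauto)
  · exact small 8 (by norm_num) (by norm_num) (by rw [h] at h3; exact h3) (by tauto)
  · exact small 10 (by norm_num) (by norm_num) (by rw [h] at h3; exact h3) (by tauto)
  · exact small 12 (by norm_num) (by norm_num) (by rw [h] at h3; exact h3) (by tauto)
  · have h4 : orderOf (x : B) ∣ 7 := orderOf_dvd_of_pow_eq_one
      (pow_eq_one x.2 (by rw [← h, pow_orderOf_eq_one]) (cst_of_7 h))
    have h5 : orderOf (x : B) = 7 := Nat.dvd_antisymm h4 (h ▸ h2)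
    rw [h5]; decide
  · have h4 : orderOf (x : B) ∣ 15 := orderOf_dvd_of_pow_eq_one
      (pow_eq_one x.2 (by rw [← h, pow_orderOf_eq_one]) (cst_of_15 h))
    have h5 : orderOf (x : B) = 15 := Nat.dvd_antisymm h4 (h ▸ h2)
    rw [h5]; decide

/-! ### Elements of order 7, 8, 10, 12, 15 -/

/-- the element `(d w, g)` -/
def mk (w : Fin 8 → ZMod 2) (g : Perm (Fin 8)) : B := ⟨Multiplicative.ofAdd (d w), g⟩

theorem mk_mem {w : Fin 8 → ZMod 2} {g : Perm (Fin 8)} (hw : ∑ i, w i = 0) (hg : Perm.sign g = 1) : mk w g ∈ H :=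
  ⟨⟨w, hw, rfl⟩, hg⟩

theorem mk_pow_ne_left {w : Fin 8 → ZMod 2} {g : Perm (Fin 8)} (n : ℕ) (i j : Fin 8)
    (h : T n g w i + T n g w j ≠ 0) : mk w g ^ n ≠ 1 := by
  intro h1
  have h2 : (mk w g ^ n).left = 1 := by rw [h1]; rfl
  rw [pow_left (mk w g) w rfl] at h2
  have h3 := congrArg (fun f : A => Multiplicative.toAdd f (i, j)) h2
  exact h h3

theorem mk_pow_ne_right {w : Fin 8 → ZMod 2} {g : Perm (Fin 8)} (n : ℕ) (h : g ^ n ≠ 1) : mk w g ^ n ≠ 1 := by
  intro h1
  have h2 : (mk w g ^ n).right = 1 := by rw [h1]; rfl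
  rw [pow_right] at h2
  exact h h2

/-- indicator of two points -/
def ind (a b : Fin 8) : Fin 8 → ZMod 2 := fun i => if i = a ∨ i = b then 1 else 0

/-- permutation of order 4 -/
def g8 : Perm (Fin 8) := c[0, 1, 2, 3] * c[4, 5]
/-- permutation of order 5 -/
def g10 : Perm (Fin 8) := c[0, 1, 2, 3, 4]
/-- permutation of order 6 -/
def g12 : Perm (Fin 8) := c[0, 1, 2] * c[3, 4] * c[5, 6]

theorem m8 : mk (ind 0 4) g8 ∈ H := mk_mem (by decide +kernel) (by decide +kernel)
theorem m10 : mk (ind 5 6) g10 ∈ H := mk_mem (by decide +kernel) (by decide +kernel)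
theorem m12 : mk (ind 0 3) g12 ∈ H := mk_mem (by decide +kernel) (by decide +kernel)
theorem m7 : mk (ind 0 0 + ind 0 0) c7 ∈ H := mk_mem (by decide +kernel) (by decide +kernel)
theorem m15 : mk (ind 0 0 + ind 0 0) c15 ∈ H := mk_mem (by decide +kernel) (by decide +kernel)

theorem o8 : orderOf (mk (ind 0 4) g8) = 8 :=
  ord8 (pow_two_mul m8 (n := 4) (by decide +kernel)) (mk_pow_ne_left 4 0 6 (by decide +kernel))

theorem o10 : orderOf (mk (ind 5 6) g10) = 10 :=
  ord10 (pow_two_mul m10 (n := 5) (by decide +kernel)) (mk_pow_ne_left 5 5 7 (by decide +kernel))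
    (mk_pow_ne_right 2 (by decide +kernel))

theorem o12 : orderOf (mk (ind 0 3) g12) = 12 :=
  ord12 (pow_two_mul m12 (n := 6) (by decide +kernel)) (mk_pow_ne_left 6 3 7 (by decide +kernel))
    (mk_pow_ne_right 4 (by decide +kernel))

theorem o7 : orderOf (mk (ind 0 0 + ind 0 0) c7) = 7 :=
  ord7 (pow_eq_one m7 (by decide +kernel) cst7) (by
    have := mk_pow_ne_right (w := ind 0 0 + ind 0 0) (g := c7) 1 (by decide +kernel)
    rwa [pow_one] at this)

theorem o15 : orderOf (mk (ind 0 0 + ind 0 0) c15) = 15 :=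
  ord15 (pow_eq_one m15 (by decide +kernel) cst15) (mk_pow_ne_right 5 (by decide +kernel))
    (mk_pow_ne_right 3 (by decide +kernel))

theorem exH {x : B} (hx : x ∈ H) {n : ℕ} (h : orderOf x = n) : ∃ y : H, orderOf y = n :=
  ⟨⟨x, hx⟩, by rw [← h]; exact Subgroup.orderOf_mk _ _⟩

theorem finite_B : Finite B := Finite.of_equiv _ SemidirectProduct.equivProd.symm

/-- **The element orders of `2⁶ : A₈`.** -/
theorem range_H : Set.range (orderOf : H → ℕ) =
    (({1, 2, 3, 4, 5, 6, 7, 8, 10, 12, 15} : Finset ℕ) : Set ℕ) := by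
  have := finite_B
  exact range_eq orders_H (exH m7 o7) (exH m8 o8) (exH m10 o10) (exH m12 o12) (exH m15 o15)

/-- the normal subgroup of the elements with trivial permutation -/
def K : Subgroup H := (SemidirectProduct.rightHom.comp H.subtype : H →* Perm (Fin 8)).ker

theorem K_normal : K.Normal := inferInstanceAs (MonoidHom.ker _).Normal

theorem mem_K {x : H} : x ∈ K ↔ (x : B).right = 1 := Iff.rfl

theorem K_ne_bot : K ≠ ⊥ := by
  intro h
  have h1 : (⟨mk (ind 0 1) 1, mk_mem (by decide +kernel) (by decide +kernel)⟩ : H) ∈ K := by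
    rw [mem_K]; rfl
  rw [h, Subgroup.mem_bot] at h1
  have h2 : mk (ind 0 1) 1 = 1 := congrArg Subtype.val h1
  have h3 := mk_pow_ne_left (w := ind 0 1) (g := 1) 1 0 2 (by decide +kernel)
  rw [pow_one] at h3
  exact h3 h2

theorem K_comm (x y : K) : x * y = y * x := by
  apply Subtype.ext
  apply Subtype.ext
  have hx : ((x : H) : B).right = 1 := x.2
  have hy : ((y : H) : B).right = 1 := y.2
  apply SemidirectProduct.ext
  · show ((x : H) : B).left * act ((x : H) : B).right ((y : H) : B).left =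
      ((y : H) : B).left * act ((y : H) : B).right ((x : H) : B).left
    rw [hx, hy, map_one]
    exact mul_comm _ _
  · show ((x : H) : B).right * ((y : H) : B).right = ((y : H) : B).right * ((x : H) : B).right
    rw [hx, hy]

theorem K_solvable : Group.IsSolvable K := by
  exact Group.isSolvable_of_comm K_comm

end Cfsg.Agent.H379.HeartA8
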